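import Cfsg.Agent.Lib.SpEvenMinDegree.Orbit
import Cfsg.Agent.Lib.SUMinDegree.Eigen
import Cfsg.Agent.Lib.SpMinDegree.Siegel

/-!
A nontrivial representation of `Sp(2n, q)`, `q` even, has degree at least
`(q^n - 1)(q^n - q)/(2(q + 1))`: some weight of the Siegel radical is not trivial on the
alternating matrices, and its Levi orbit is large.
-/

set_option autoImplicit false
set_option linter.unusedSectionVars false

namespace CfsgLib.SpEvenMinDegree

open Matrix Cfsg Module CfsgLib.SUMinDegree CfsgLib.SpMinDegree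

variable {F : Type*} [Field F] [Fintype F] [DecidableEq F] {n : ℕ}

local notation "G" => Matrix.symplecticGroup (Fin n) F

theorem psi_inj {a b : F} (h : ∀ c, RankOne.psi F (a * c) = RankOne.psi F (b * c)) : a = b := by
  by_contra hne
  have h1 := RankOne.psi_sum (a - b)
  have h2 : ∀ c, RankOne.psi F ((a - b) * c) = 1 := fun c => by
    rw [sub_mul, sub_eq_add_neg, AddChar.map_add_eq_mul, h c, ← AddChar.map_add_eq_mul, add_neg_cancel,
      AddChar.map_zero_eq_one]
  rw [if_neg (sub_ne_zero.mpr hne), Finset.sum_congr rfl fun c _ => h2 c, Finset.sum_const,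
    Finset.card_univ, nsmul_one] at h1
  exact Nat.cast_ne_zero.mpr Fintype.card_ne_zero h1

theorem exists_psi (χ : AddChar F ℂ) : ∃ a, ∀ c, χ c = RankOne.psi F (a * c) := by
  classical
  obtain ⟨a, ha⟩ := ((Fintype.bijective_iff_injective_and_card
    (fun a : F => AddChar.mulShift (RankOne.psi F) a)).mpr
    ⟨fun a b h => psi_inj fun c => DFunLike.congr_fun h c, AddChar.card_eq.symm⟩).2 χ
  exact ⟨a, fun c => (DFunLike.congr_fun ha c).symm⟩

/-- The symmetric matrix of a vector. -/
def line (c : F) (v : Fin n → F) : SpMinDegree.Sym F n :=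
  ⟨c • vecMulVec v v, by
    show (_ : Matrix (Fin n) (Fin n) F)ᵀ = _
    rw [transpose_smul, transpose_vecMulVec]⟩

/-- The symmetric matrix of a pair of vectors. -/
def duo (c : F) (v w : Fin n → F) : SpMinDegree.Sym F n :=
  ⟨c • (vecMulVec v w + vecMulVec w v), by
    show (_ : Matrix (Fin n) (Fin n) F)ᵀ = _
    rw [transpose_smul, transpose_add, transpose_vecMulVec, transpose_vecMulVec, add_comm]⟩

theorem line_add (c : F) (v w : Fin n → F) : line c (v + w) = line c v + line c w + duo c v w := by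
  refine Subtype.ext (Matrix.ext fun i j => ?_)
  simp [line, duo, vecMulVec_apply]
  ring

theorem line_smul (a c : F) (v : Fin n → F) : line c (a • v) = line (a * a * c) v := by
  refine Subtype.ext (Matrix.ext fun i j => ?_)
  simp [line, vecMulVec_apply]
  ring

theorem line_add_scalar (c d : F) (v : Fin n → F) : line (c + d) v = line c v + line d v :=
  Subtype.ext (by simp [line, add_smul])

theorem duo_add_scalar (c d : F) (v w : Fin n → F) : duo (c + d) v w = duo c v w + duo d v w :=
  Subtype.ext (by simp [duo, add_smul]; abel)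

theorem duo_add (c : F) (u v w : Fin n → F) : duo c (u + v) w = duo c u w + duo c v w := by
  refine Subtype.ext (Matrix.ext fun i j => ?_)
  simp [duo, vecMulVec_apply]
  ring

theorem duo_smul (a c : F) (v w : Fin n → F) : duo c (a • v) w = duo (a * c) v w := by
  refine Subtype.ext (Matrix.ext fun i j => ?_)
  simp [duo, vecMulVec_apply]
  ring

theorem symCongr_add (A : GL (Fin n) F) (S T : SpMinDegree.Sym F n) :
    symCongr A (S + T) = symCongr A S + symCongr A T :=
  Subtype.ext (by
    show _ * (S.1 + T.1) * _ = _ * S.1 * _ + _ * T.1 * _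
    rw [Matrix.mul_add, Matrix.add_mul])

theorem symCongr_line (A : GL (Fin n) F) (c : F) (v : Fin n → F) :
    symCongr A (line c v) = line c ((A : Matrix (Fin n) (Fin n) F) *ᵥ v) := by
  refine Subtype.ext ?_
  show _ * (c • vecMulVec v v) * _ = c • vecMulVec _ _
  rw [Matrix.mul_smul, Matrix.smul_mul, mul_vecMulVec, vecMulVec_mul, vecMul_transpose]

/-- The character transported by congruence. -/
noncomputable def congrChar (ψ : AddChar (SpMinDegree.Sym F n) ℂ) (A : GL (Fin n) F) : AddChar (SpMinDegree.Sym F n) ℂ :=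
  ψ.compAddMonoidHom (AddMonoidHom.mk' (symCongr A) (symCongr_add A))

theorem exists_quad (h2 : (2 : F) = 0) (ψ : AddChar (SpMinDegree.Sym F n) ℂ) :
    ∃ Q : (Fin n → F) → F, Quad Q ∧ (∀ v c, ψ (line c v) = RankOne.psi F (Q v * c)) ∧
      ∀ v w c, ψ (duo c v w) = RankOne.psi F (pol Q v w * c) := by
  let lc : (Fin n → F) → AddChar F ℂ := fun v => ψ.compAddMonoidHom
    (AddMonoidHom.mk' (fun c => line c v) fun c d => line_add_scalar c d v)
  choose Q hQ' using fun v => exists_psi (lc v)
  have hQ : ∀ v c, ψ (line c v) = RankOne.psi F (Q v * c) := hQ'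
  let dc : (Fin n → F) → (Fin n → F) → AddChar F ℂ := fun v w => ψ.compAddMonoidHom
    (AddMonoidHom.mk' (fun c => duo c v w) fun c d => duo_add_scalar c d v w)
  choose B hB' using fun v w => exists_psi (dc v w)
  have hB : ∀ v w c, ψ (duo c v w) = RankOne.psi F (B v w * c) := hB'
  have hpol : ∀ v w, pol Q v w = B v w := fun v w => by
    have h : Q (v + w) = Q v + Q w + B v w := psi_inj fun c => by
      rw [← hQ, line_add, AddChar.map_add_eq_mul, AddChar.map_add_eq_mul, hQ, hQ, hB, add_mul, add_mul,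
        AddChar.map_add_eq_mul, AddChar.map_add_eq_mul]
    rw [pol, h]
    linear_combination (Q v + Q w) * h2
  refine ⟨Q, ⟨fun a v => psi_inj fun c => ?_, fun u v w => ?_, fun a v w => ?_⟩, hQ, fun v w c => ?_⟩
  · rw [← hQ, line_smul, hQ]
    congr 1
    ring
  · rw [hpol, hpol, hpol]
    exact psi_inj fun c => by
      rw [← hB, duo_add, AddChar.map_add_eq_mul, hB, hB, add_mul, AddChar.map_add_eq_mul]
  · rw [hpol, hpol]
    exact psi_inj fun c => by
      rw [← hB, duo_smul, hB]
      congr 1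
      ring
  · rw [hB, hpol]

theorem unip_notMem_center {S : SpMinDegree.Sym F n} (hS : S ≠ 0) : (unip S : G) ∉ Subgroup.center G := by
  intro h
  have h1 := congrArg (fun g : G => (g : Matrix (Fin n ⊕ Fin n) (Fin n ⊕ Fin n) F))
    (Subgroup.mem_center_iff.mp h ⟨Matrix.J (Fin n) F, SymplecticGroup.J_mem _ _⟩)
  simp only [unip, Matrix.J] at h1
  change fromBlocks (0 : Matrix (Fin n) (Fin n) F) (-1) 1 0 * fromBlocks 1 S.1 0 1 =
    fromBlocks 1 S.1 0 1 * fromBlocks 0 (-1) 1 0 at h1
  rw [fromBlocks_multiply, fromBlocks_multiply, fromBlocks_inj] at h1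
  refine hS (Subtype.ext ?_)
  simpa using h1.1.symm

variable {V : Type*} [AddCommGroup V] [Module ℂ V] (ρ : Representation ℂ ↥(Matrix.symplecticGroup (Fin n) F) V)

theorem unip_add (S T : SpMinDegree.Sym F n) : (unip (S + T) : G) = unip S * unip T :=
  AddChar.map_add_eq_mul _ S T

theorem exists_weight_duo (hn : 2 ≤ n) (hperf : commutator ↥G = ⊤) (hnt : ∃ g : G, ρ g ≠ 1) :
    ∃ (ψ : AddChar (SpMinDegree.Sym F n) ℂ) (x : V), x ≠ 0 ∧ x ∈ weight ρ ⇑(unip : AddChar (SpMinDegree.Sym F n) G) ψ ∧
      ∃ (c : F) (v w : Fin n → F), ψ (duo c v w) ≠ 1 := by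
  classical
  by_contra hc
  push Not at hc
  set v : Fin n → F := Pi.single ⟨0, by omega⟩ 1
  set w : Fin n → F := Pi.single ⟨1, by omega⟩ 1
  have hS : duo 1 v w ≠ 0 := fun h => by
    have h1 := congrFun (congrFun (congrArg Subtype.val h) ⟨0, by omega⟩) ⟨1, by omega⟩
    simp [duo, v, w, vecMulVec_apply] at h1
  have h1 : ρ (unip (duo 1 v w)) = 1 := LinearMap.ext fun x => by
    have hfix : ∀ ψ : AddChar (SpMinDegree.Sym F n) ℂ,
        ρ (unip (duo 1 v w)) (proj ρ ⇑(unip : AddChar (SpMinDegree.Sym F n) G) ψ x) = proj ρ ⇑(unip : AddChar (SpMinDegree.Sym F n) G) ψ x := fun ψ => by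
      by_cases h : proj ρ ⇑(unip : AddChar (SpMinDegree.Sym F n) G) ψ x = 0
      · rw [h, map_zero]
      · have hm := proj_mem_weight ρ (T := ⇑(unip : AddChar (SpMinDegree.Sym F n) G)) unip_add ψ x
        rw [(mem_weight ρ _).mp hm, hc ψ _ h hm 1 v w, one_smul]
    have hsum := sum_proj ρ (T := ⇑(unip : AddChar (SpMinDegree.Sym F n) G)) unip_add x
    have h2 := congrArg (ρ (unip (duo 1 v w))) hsum
    rw [map_sum, Finset.sum_congr rfl fun ψ _ => hfix ψ, hsum, map_smul] at h2
    exact (smul_right_injective V (Nat.cast_ne_zero.mpr Fintype.card_ne_zero) h2).symm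
  rcases Classical.SympTrans.commutator_le_or_le_center ρ.ker with h | h
  · exact unip_notMem_center hS (h h1)
  · obtain ⟨g, hg⟩ := hnt
    exact hg (h (hperf ▸ Subgroup.mem_top g))

/-- The degree bound. -/
theorem degree_bound (hn : 2 ≤ n) (heven : Even (Fintype.card F))
    (hex : (n, Fintype.card F) ≠ (2, 2)) [FiniteDimensional ℂ V] (hnt : ∃ g : G, ρ g ≠ 1) :
    (Fintype.card F ^ n - 1) * (Fintype.card F ^ n - Fintype.card F) ≤
      2 * (Fintype.card F + 1) * finrank ℂ V := by
  classical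
  have h2 : (2 : F) = 0 := by
    by_contra h
    have hc : ringChar F ≠ 2 := fun e => h (by simpa using (ringChar.spec F 2).2 (e ▸ dvd_rfl))
    exact (Nat.not_even_iff_odd.mpr (Nat.odd_iff.mpr (FiniteField.odd_card_of_char_ne_two hc))) heven
  have hperf : commutator G = ⊤ := Classical.SympTrans.commutator_of_card (by
    rw [Nat.card_eq_fintype_card]
    have h1 := Fintype.one_lt_card (α := F)
    rcases Nat.lt_or_ge n 3 with h | h
    · refine Or.inr (Or.inl ⟨by omega, ?_⟩)
      by_contra h3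
      exact hex (Prod.ext (show n = 2 by omega) (show Fintype.card F = 2 by omega))
    · exact Or.inl h)
  obtain ⟨ψ, x, hx0, hx, c, v, w, hvw⟩ := exists_weight_duo ρ hn hperf hnt
  obtain ⟨Q, hQ, hline, hduo⟩ := exists_quad h2 ψ
  have hpol : pol Q v w ≠ 0 := fun h => hvw (by rw [hduo, h, zero_mul, AddChar.map_zero_eq_one])
  have horb : ∀ Q' ∈ orbit Q, ∃ φ : AddChar (SpMinDegree.Sym F n) ℂ,
      (∀ u d, φ (line d u) = RankOne.psi F (Q' u * d)) ∧ weight ρ ⇑(unip : AddChar (SpMinDegree.Sym F n) G) φ ≠ ⊥ := by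
    intro Q' hQ'
    obtain ⟨A, rfl⟩ := mem_orbit.mp hQ'
    set g : GL (Fin n) F :=
      Matrix.GeneralLinearGroup.toLin.symm (LinearMap.GeneralLinearGroup.ofLinearEquiv A)
    have hg : ∀ u, (g : Matrix (Fin n) (Fin n) F) *ᵥ u = A u := fun u => by
      show LinearMap.toMatrix' A.toLinearMap *ᵥ u = A u
      rw [LinearMap.toMatrix'_mulVec]
      rfl
    refine ⟨congrChar ψ g, fun u d => ?_, (Submodule.ne_bot_iff _).mpr
      ⟨ρ (leviS g)⁻¹ x, (mem_weight ρ _).mpr fun S => ?_, fun h => hx0 ?_⟩⟩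
    · show ψ (symCongr g (line d u)) = _
      rw [symCongr_line, hline, hg]
    · rw [← Module.End.mul_apply, ← map_mul,
        show unip S * (leviS g)⁻¹ = (leviS g)⁻¹ * unip (symCongr g S) by rw [← leviS_conj]; group,
        map_mul, Module.End.mul_apply, (mem_weight ρ _).mp hx, map_smul]
      rfl
    · have h' := congrArg (ρ (leviS g)) h
      simpa [← Module.End.mul_apply, ← map_mul] using h'
  choose φ hφ hne using horb
  have hinj : Function.Injective fun Q' : orbit Q => φ Q'.1 Q'.2 := fun a b h => Subtype.ext <|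
    funext fun u => psi_inj fun d => by
      rw [← hφ a.1 a.2, ← hφ b.1 b.2]
      exact congrArg (fun χ : AddChar (SpMinDegree.Sym F n) ℂ => χ (line d u)) h
  have hsum := sum_finrank_le ρ (T := ⇑(unip : AddChar (SpMinDegree.Sym F n) G)) _ hinj (⊤ : Submodule ℂ V)
  have hle : (orbit Q).card ≤ finrank ℂ V := by
    refine le_trans ?_ (hsum.trans (Submodule.finrank_le _))
    rw [← Fintype.card_coe, ← Finset.card_univ, Finset.card_eq_sum_ones]
    refine Finset.sum_le_sum fun Q' _ => ?_
    rw [top_inf_eq]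
    exact Submodule.one_le_finrank_iff.mpr (hne Q'.1 Q'.2)
  have h := card_orbit_ge h2 hQ hpol
  rw [Fintype.card_fun, Fintype.card_fin] at h
  exact h.trans (Nat.mul_le_mul_left _ hle)

end CfsgLib.SpEvenMinDegree
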