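import Mathlib

/-!
In characteristic two, a quadratic function with nonzero polar form has at least
`(q^n - 1)(q^n - q)/(2(q + 1))` images under linear automorphisms: count the pairs with polar
value one.
-/

set_option autoImplicit false
set_option linter.unusedSectionVars false

namespace CfsgLib.SpEvenMinDegree

open Module

variable {F : Type*} [Field F] [Fintype F] {V : Type*} [AddCommGroup V] [Module F V]

/-- The polar form, in characteristic two. -/
def pol (Q : V → F) (v w : V) : F := Q (v + w) + Q v + Q w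

/-- Quadratic functions. -/
structure Quad (Q : V → F) : Prop where
  smul : ∀ (a : F) v, Q (a • v) = a * a * Q v
  add_left : ∀ u v w, pol Q (u + v) w = pol Q u w + pol Q v w
  smul_left : ∀ (a : F) v w, pol Q (a • v) w = a * pol Q v w

variable (h2 : (2 : F) = 0) {Q : V → F}

theorem pol_comm (v w : V) : pol Q v w = pol Q w v := by
  rw [pol, pol, add_comm w v]; ring

include h2 in
theorem Quad.q_add (v w : V) : Q (v + w) = Q v + Q w + pol Q v w := by
  rw [pol]; linear_combination (-Q v - Q w) * h2

theorem Quad.q_zero (hQ : Quad Q) : Q 0 = 0 := by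
  simpa using hQ.smul 0 (0 : V)

include h2 in
theorem Quad.pol_self (hQ : Quad Q) (v : V) : pol Q v v = 0 := by
  rw [pol, ← two_smul F v, h2, zero_smul, hQ.q_zero, zero_add, ← two_mul, h2, zero_mul]

/-- The polar form as a linear map in its first variable. -/
def Quad.polLin (hQ : Quad Q) (w : V) : V →ₗ[F] F where
  toFun v := pol Q v w
  map_add' u v := hQ.add_left u v w
  map_smul' a v := hQ.smul_left a v w

theorem Quad.add_right (hQ : Quad Q) (u v w : V) : pol Q w (u + v) = pol Q w u + pol Q w v := by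
  rw [pol_comm, hQ.add_left, pol_comm u, pol_comm v]

theorem Quad.smul_right (hQ : Quad Q) (a : F) (v w : V) : pol Q w (a • v) = a * pol Q w v := by
  rw [pol_comm, hQ.smul_left, pol_comm]

theorem pol_comp (A : V →ₗ[F] V) (v w : V) : pol (fun x => Q (A x)) v w = pol Q (A v) (A w) := by
  simp [pol]

theorem Quad.comp (hQ : Quad Q) (A : V →ₗ[F] V) : Quad fun x => Q (A x) where
  smul a v := by simp [hQ.smul]
  add_left u v w := by rw [pol_comp, pol_comp, pol_comp, map_add, hQ.add_left]
  smul_left a v w := by rw [pol_comp, pol_comp, map_smul, hQ.smul_left]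

include h2 in
theorem Quad.indep (hQ : Quad Q) {e f : V} (h : pol Q e f = 1) : LinearIndependent F ![e, f] := by
  rw [LinearIndependent.pair_iff]
  intro s t hst
  constructor
  · have h1 := congrArg (fun v => pol Q v f) hst
    simp only [hQ.add_left, hQ.smul_left, h, hQ.pol_self h2, show pol Q (0 : V) f = 0 from
      map_zero (hQ.polLin f)] at h1
    simpa using h1
  · have h1 := congrArg (fun v => pol Q v e) hst
    simp only [hQ.add_left, hQ.smul_left, pol_comm f e, h, hQ.pol_self h2, show pol Q (0 : V) e = 0 from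
      map_zero (hQ.polLin e)] at h1
    simpa using h1

variable [FiniteDimensional F V]

/-- The coordinates along a pair and a complement. -/
theorem exists_coords {e f : V} (h : LinearIndependent F ![e, f]) :
    ∃ C : Submodule F V, finrank F C + 2 = finrank F V ∧ ∃ φ : (F × F × C) ≃ₗ[F] V,
      ∀ a b c, φ (a, b, c) = a • e + b • f + (c : V) := by
  obtain ⟨C, hC⟩ := Submodule.exists_isCompl (Submodule.span F (Set.range ![e, f]))
  have hd : finrank F C + 2 = finrank F V := by
    rw [← Submodule.finrank_add_eq_of_isCompl hC, finrank_span_eq_card h, Fintype.card_fin, add_comm]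
  let L : (F × F × C) →ₗ[F] V :=
    (LinearMap.id.smulRight e).coprod ((LinearMap.id.smulRight f).coprod C.subtype)
  have hL : ∀ a b c, L (a, b, c) = a • e + b • f + (c : V) := fun a b c => by simp [L, add_assoc]
  have hinj : Function.Injective L := by
    rw [← LinearMap.ker_eq_bot, LinearMap.ker_eq_bot']
    rintro ⟨a, b, c⟩ hz
    rw [hL] at hz
    have hmem : a • e + b • f ∈ Submodule.span F (Set.range ![e, f]) :=
      add_mem (Submodule.smul_mem _ _ (Submodule.subset_span ⟨0, rfl⟩))
        (Submodule.smul_mem _ _ (Submodule.subset_span ⟨1, rfl⟩))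
    have hc : (c : V) = 0 := by
      have h1 : (c : V) ∈ Submodule.span F (Set.range ![e, f]) := by
        rw [eq_neg_of_add_eq_zero_right hz]; exact neg_mem hmem
      exact (Submodule.disjoint_def.mp hC.disjoint) _ h1 c.2
    rw [hc, add_zero] at hz
    obtain ⟨ha, hb⟩ := LinearIndependent.pair_iff.mp h a b hz
    simp [ha, hb, Subtype.ext_iff, hc]
  refine ⟨C, hd, LinearEquiv.ofBijective L ⟨hinj, ?_⟩, hL⟩
  exact (LinearMap.injective_iff_surjective_of_finrank_eq_finrank (by simp; omega)).mp hinj

/-- Automorphisms are transitive on independent pairs. -/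
theorem exists_map_pair {e f e' f' : V} (h : LinearIndependent F ![e, f])
    (h' : LinearIndependent F ![e', f']) : ∃ A : V ≃ₗ[F] V, A e = e' ∧ A f = f' := by
  obtain ⟨C, hd, φ, hφ⟩ := exists_coords h
  obtain ⟨C', hd', φ', hφ'⟩ := exists_coords h'
  let ψ : C ≃ₗ[F] C' := LinearEquiv.ofFinrankEq C C' (by omega)
  let A := φ.symm.trans (((LinearEquiv.refl F F).prodCongr ((LinearEquiv.refl F F).prodCongr ψ)).trans φ')
  have key : ∀ a b, A (a • e + b • f) = a • e' + b • f' := fun a b => by
    have h1 : φ.symm (a • e + b • f) = (a, b, 0) := by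
      rw [LinearEquiv.symm_apply_eq, hφ]; simp
    simp [A, h1, hφ']
  exact ⟨A, by simpa using key 1 0, by simpa using key 0 1⟩

variable [Fintype V]

include h2 in
theorem exists_sq (x : F) : ∃ y : F, y * y = x := by
  have hc : CharP F 2 := by
    refine CharP.congr (ringChar F) ((Nat.prime_dvd_prime_iff_eq ?_ Nat.prime_two).mp
      ((ringChar.spec F 2).mp (by simpa using h2)))
    exact CharP.char_is_prime F (ringChar F)
  obtain ⟨y, hy⟩ := (PerfectRing.bijective_frobenius (R := F) (p := 2)).2 x
  exact ⟨y, by rw [← sq]; exact hy⟩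

include h2 in
/-- The first value is arbitrary and half of the second values occur. -/
theorem many_values [DecidableEq F] (hQ : Quad Q) {e f : V} (hef : pol Q e f = 1) :
    Fintype.card F * (Fintype.card F - 1) ≤ 2 *
      (Finset.univ.filter fun x : F × F => ∃ e' f', pol Q e' f' = 1 ∧ Q e' = x.1 ∧ Q f' = x.2).card := by
  classical
  obtain ⟨v, w, hv, hvw⟩ : ∃ v w, Q v ≠ 0 ∧ pol Q v w = 1 := by
    by_cases he : Q e = 0
    · by_cases hf : Q f = 0
      · exact ⟨e + f, f, by rw [Quad.q_add h2 (Q := Q), he, hf, hef]; simp,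
          by rw [hQ.add_left, hef, hQ.pol_self h2, add_zero]⟩
      · exact ⟨f, e, hf, by rw [pol_comm, hef]⟩
    · exact ⟨e, f, he, hef⟩
  set S := Finset.univ.filter fun x : F × F => ∃ e' f', pol Q e' f' = 1 ∧ Q e' = x.1 ∧ Q f' = x.2
  have hrow : ∀ a : F, a ≠ 0 → Fintype.card F ≤ 2 * (S.filter fun x => x.1 = a).card := by
    intro a ha
    obtain ⟨r, hr⟩ := exists_sq h2 (a / Q v)
    have hr0 : r ≠ 0 := fun h => div_ne_zero ha hv (by rw [← hr, h, zero_mul])
    have h1 : Q (r • v) = a := by rw [hQ.smul, hr, div_mul_cancel₀ _ hv]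
    have h2' : pol Q (r • v) (r⁻¹ • w) = 1 := by
      rw [hQ.smul_left, hQ.smul_right, hvw, mul_one, mul_inv_cancel₀ hr0]
    let g : F → F := fun t => Q (r⁻¹ • w + t • (r • v))
    have hg : ∀ t, g t = Q (r⁻¹ • w) + (t * t * a + t) := fun t => by
      show Q _ = _
      rw [Quad.q_add h2 (Q := Q), hQ.smul t, h1, hQ.smul_right, pol_comm, h2', mul_one, add_assoc]
    have hmaps : ∀ t, (a, g t) ∈ S.filter fun x => x.1 = a := fun t => by
      refine Finset.mem_filter.mpr ⟨Finset.mem_filter.mpr ⟨Finset.mem_univ _, r • v,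
        r⁻¹ • w + t • (r • v), ?_, h1, rfl⟩, rfl⟩
      rw [hQ.add_right, h2', hQ.smul_right, hQ.pol_self h2, mul_zero, add_zero]
    rw [← Finset.card_univ]
    refine Finset.card_le_mul_card_image_of_maps_to (f := fun t => (a, g t)) (fun t _ => hmaps t) 2
      fun x _ => ?_
    rw [← not_lt, Finset.two_lt_card]
    rintro ⟨s, hs, t, ht, u, hu, hst, hsu, htu⟩
    simp only [Finset.mem_filter, Finset.mem_univ, true_and] at hs ht hu
    have key : ∀ s t : F, g s = g t → s ≠ t → (s + t) * a + 1 = 0 := by
      intro s t he hne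
      rw [hg, hg] at he
      refine (mul_eq_zero.mp (show (s + t) * ((s + t) * a + 1) = 0 by
        linear_combination he + (s * t * a + t * t * a + t) * h2)).resolve_left fun h => hne ?_
      linear_combination h - t * h2
    have e1 := key s t (congrArg Prod.snd (hs.trans ht.symm)) hst
    have e2 := key s u (congrArg Prod.snd (hs.trans hu.symm)) hsu
    exact htu (mul_right_cancel₀ ha (by linear_combination e1 - e2))
  have h3 : (Finset.univ.erase (0 : F)).card * Fintype.card F ≤
      ∑ a ∈ Finset.univ.erase (0 : F), 2 * (S.filter fun x => x.1 = a).card := by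
    rw [← smul_eq_mul]
    exact Finset.card_nsmul_le_sum _ _ _ fun a ha => hrow a (Finset.ne_of_mem_erase ha)
  rw [Finset.card_erase_of_mem (Finset.mem_univ _), Finset.card_univ, mul_comm, ← Finset.mul_sum] at h3
  refine h3.trans (Nat.mul_le_mul_left _ ?_)
  rw [Finset.card_eq_sum_card_fiberwise (f := Prod.fst) (t := Finset.univ) (fun _ _ => Finset.mem_univ _)]
  exact Finset.sum_le_sum_of_subset (Finset.subset_univ _)

include h2 in
/-- If every pair has an anisotropic orthogonal vector, all values occur. -/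
theorem all_values (hQ : Quad Q) {e f : V} (hef : pol Q e f = 1)
    (hne : ∀ e' f', pol Q e' f' = 1 → ∃ z, pol Q z e' = 0 ∧ pol Q z f' = 0 ∧ Q z ≠ 0) (a b : F) :
    ∃ e' f', pol Q e' f' = 1 ∧ Q e' = a ∧ Q f' = b := by
  have step : ∀ e f : V, pol Q e f = 1 → ∀ a, ∃ e', pol Q e' f = 1 ∧ Q e' = a := by
    intro e f hef a
    obtain ⟨z, hze, hzf, hz⟩ := hne e f hef
    obtain ⟨r, hr⟩ := exists_sq h2 ((a + Q e) / Q z)
    refine ⟨e + r • z, by rw [hQ.add_left, hef, hQ.smul_left, hzf, mul_zero, add_zero], ?_⟩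
    rw [Quad.q_add h2 (Q := Q), hQ.smul, hr, hQ.smul_right, pol_comm, hze, mul_zero, add_zero,
      div_mul_cancel₀ _ hz]
    linear_combination Q e * h2
  obtain ⟨e', he', ha⟩ := step e f hef a
  obtain ⟨f', hf', hb⟩ := step f e' (by rw [pol_comm, he']) b
  exact ⟨e', f', by rw [pol_comm, hf'], ha, hb⟩

/-- The images under automorphisms. -/
noncomputable def orbit (Q : V → F) : Finset (V → F) :=
  (Set.toFinite (Set.range fun A : V ≃ₗ[F] V => fun x => Q (A x))).toFinset

theorem mem_orbit {Q Q' : V → F} : Q' ∈ orbit Q ↔ ∃ A : V ≃ₗ[F] V, (fun x => Q (A x)) = Q' := by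
  simp [orbit]

theorem orbit_closed {Q' : V → F} (h : Q' ∈ orbit Q) (M : V ≃ₗ[F] V) :
    (fun x => Q' (M x)) ∈ orbit Q := by
  obtain ⟨A, rfl⟩ := mem_orbit.mp h
  exact mem_orbit.mpr ⟨M.trans A, rfl⟩

include h2 in
/-- Images with polar value one at a given pair. -/
theorem card_at_pair_ge [DecidableEq F] (hQ : Quad Q) {e f : V} (h : LinearIndependent F ![e, f])
    (S : Finset (F × F)) (hS : ∀ x ∈ S, ∃ e' f', pol Q e' f' = 1 ∧ Q e' = x.1 ∧ Q f' = x.2) :
    S.card * (Fintype.card F ^ (finrank F V - 2)) ^ 2 ≤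
      ((orbit Q).filter fun Q' => pol Q' e f = 1).card := by
  classical
  obtain ⟨C, hd, φ, hφ⟩ := exists_coords h
  choose! e' f' hp he hf using hS
  have hA : ∀ x ∈ S, ∃ A : V ≃ₗ[F] V, A e = e' x ∧ A f = f' x := fun x hx =>
    exists_map_pair h (hQ.indep h2 (hp x hx))
  choose! A hAe hAf using hA
  have := Fintype.ofFinite C
  let α' : Dual F C → V →ₗ[F] F := fun α =>
    α ∘ₗ LinearMap.snd F F C ∘ₗ LinearMap.snd F F (F × C) ∘ₗ φ.symm.toLinearMap
  have hsymm : ∀ (a b : F) (c : C), φ.symm (a • e + b • f + (c : V)) = (a, b, c) := fun a b c => by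
    rw [← hφ, LinearEquiv.symm_apply_apply]
  have hαe : ∀ α, α' α e = 0 := fun α => by
    have := hsymm 1 0 0
    simp only [one_smul, zero_smul, add_zero, Submodule.coe_zero] at this
    simp [α', this]
  have hαf : ∀ α, α' α f = 0 := fun α => by
    have := hsymm 0 1 0
    simp only [one_smul, zero_smul, zero_add, add_zero, Submodule.coe_zero] at this
    simp [α', this]
  have hαc : ∀ α (c : C), α' α c = α c := fun α c => by
    have := hsymm 0 0 c
    simp only [zero_smul, zero_add] at this
    simp [α', this]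
  let M : Dual F C × Dual F C → V ≃ₗ[F] V := fun p => LinearEquiv.ofInvolutive
    (LinearMap.id + (α' p.1).smulRight e + (α' p.2).smulRight f) fun x => by
      simp only [LinearMap.add_apply, LinearMap.id_coe, id_eq, LinearMap.smulRight_apply, map_add,
        map_smul, hαe, hαf, zero_smul, add_zero]
      rw [show x + α' p.1 x • e + α' p.2 x • f + α' p.1 x • e + α' p.2 x • f =
        x + (α' p.1 x + α' p.1 x) • e + (α' p.2 x + α' p.2 x) • f by module,
        ← two_mul, h2, ← two_mul, h2]
      simp
  have hM : ∀ p x, M p x = x + α' p.1 x • e + α' p.2 x • f := fun p x => rfl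
  let Φ : (F × F) × Dual F C × Dual F C → V → F := fun p x => Q (A p.1 (M p.2 x))
  have hΦe : ∀ x ∈ S, ∀ p, Φ (x, p) e = x.1 := fun x hx p => by
    show Q (A x (M p e)) = _
    rw [hM, hαe, hαe, zero_smul, zero_smul, add_zero, add_zero, hAe x hx, he x hx]
  have hΦf : ∀ x ∈ S, ∀ p, Φ (x, p) f = x.2 := fun x hx p => by
    show Q (A x (M p f)) = _
    rw [hM, hαf, hαf, zero_smul, zero_smul, add_zero, add_zero, hAf x hx, hf x hx]
  have hpol : ∀ x ∈ S, ∀ (p : Dual F C × Dual F C) (c : C), pol (Φ (x, p)) c e =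
      pol Q (A x c) (e' x) + p.2 c ∧ pol (Φ (x, p)) c f = pol Q (A x c) (f' x) + p.1 c := by
    intro x hx p c
    have h1 : ∀ v, pol (Φ (x, p)) c v = pol Q (A x (M p c)) (A x (M p v)) :=
      fun v => pol_comp ((A x).toLinearMap ∘ₗ (M p).toLinearMap) (c : V) v
    have h3 : A x (M p c) = A x c + p.1 c • e' x + p.2 c • f' x := by
      rw [hM, hαc, hαc, map_add, map_add, map_smul, map_smul, hAe x hx, hAf x hx]
    constructor
    · rw [h1, h3, hM, hαe, hαe, zero_smul, zero_smul, add_zero, add_zero, hAe x hx, hQ.add_left,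
        hQ.add_left, hQ.smul_left, hQ.smul_left, hQ.pol_self h2, pol_comm (f' x), hp x hx]
      ring
    · rw [h1, h3, hM, hαf, hαf, zero_smul, zero_smul, add_zero, add_zero, hAf x hx, hQ.add_left,
        hQ.add_left, hQ.smul_left, hQ.smul_left, hQ.pol_self h2, hp x hx]
      ring
  have : Finite (Dual F C) := Finite.of_injective (fun α => (α : C → F)) DFunLike.coe_injective
  have := Fintype.ofFinite (Dual F C)
  have hcard : Fintype.card (Dual F C) = Fintype.card F ^ (finrank F V - 2) := by
    rw [Module.card_eq_pow_finrank (K := F), Subspace.dual_finrank_eq]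
    congr 1
    omega
  refine le_trans (le_of_eq ?_) (Finset.card_le_card_of_injOn Φ
    (s := S ×ˢ (Finset.univ : Finset (Dual F C × Dual F C))) ?_ ?_)
  · rw [Finset.card_product, Finset.card_univ, Fintype.card_prod, hcard, sq]
  · intro p hp'
    obtain ⟨hx, -⟩ := Finset.mem_product.mp hp'
    refine Finset.mem_filter.mpr ⟨mem_orbit.mpr ⟨(M p.2).trans (A p.1), rfl⟩, ?_⟩
    have h1 : pol (Φ p) e f = pol Q (A p.1 (M p.2 e)) (A p.1 (M p.2 f)) :=
      pol_comp ((A p.1).toLinearMap ∘ₗ (M p.2).toLinearMap) e f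
    rw [h1]
    simp [hM, hαe, hαf, hAe p.1 hx, hAf p.1 hx, hp p.1 hx]
  · rintro ⟨x, p⟩ hxp ⟨y, r⟩ hyr heq
    obtain ⟨hx, -⟩ := Finset.mem_product.mp hxp
    obtain ⟨hy, -⟩ := Finset.mem_product.mp hyr
    have hxy : x = y := Prod.ext ((hΦe x hx p).symm.trans ((congrFun heq e).trans (hΦe y hy r)))
      ((hΦf x hx p).symm.trans ((congrFun heq f).trans (hΦf y hy r)))
    subst hxy
    refine Prod.ext rfl (Prod.ext (LinearMap.ext fun c => ?_) (LinearMap.ext fun c => ?_))
    · have h1 := congrArg (fun g => pol g (c : V) f) heq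
      simp only [(hpol x hx _ c).2] at h1
      exact add_left_cancel h1
    · have h1 := congrArg (fun g => pol g (c : V) e) heq
      simp only [(hpol x hx _ c).1] at h1
      exact add_left_cancel h1

/-- The radical of the polar form. -/
def rad (hQ : Quad Q) : Submodule F V where
  carrier := {x | ∀ y, pol Q x y = 0}
  add_mem' hx hy y := by rw [hQ.add_left, hx y, hy y, add_zero]
  zero_mem' y := map_zero (hQ.polLin y)
  smul_mem' a x hx y := by rw [hQ.smul_left, hx y, mul_zero]

theorem card_pol_one_le [DecidableEq F] (hQ : Quad Q) {d : ℕ} (hd : d ≤ finrank F (rad hQ)) :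
    (Finset.univ.filter fun p : Fin 2 → V => pol Q (p 0) (p 1) = 1).card ≤
      (Fintype.card V - Fintype.card F ^ d) * Fintype.card F ^ (finrank F V - 1) := by
  classical
  have hle := Finset.card_le_mul_card_image_of_maps_to
    (s := Finset.univ.filter fun p : Fin 2 → V => pol Q (p 0) (p 1) = 1) (f := fun p => p 0)
    (t := Finset.univ.filter fun v : V => v ∉ rad hQ) (fun p hp => by
      simp only [Finset.mem_filter, Finset.mem_univ, true_and] at hp ⊢
      intro h
      rw [h (p 1)] at hp
      exact zero_ne_one hp) (Fintype.card F ^ (finrank F V - 1)) ?_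
  · refine hle.trans ?_
    rw [mul_comm]
    refine Nat.mul_le_mul_right _ ?_
    rw [Finset.filter_not, Finset.card_univ_sdiff]
    refine Nat.sub_le_sub_left ?_ _
    rw [← Fintype.card_subtype, Module.card_eq_pow_finrank (K := F) (V := {x // x ∈ rad hQ})]
    exact Nat.pow_le_pow_right Fintype.card_pos hd
  · intro v hv
    simp only [Finset.mem_filter, Finset.mem_univ, true_and] at hv
    rcases Finset.eq_empty_or_nonempty
      ((Finset.univ.filter fun p : Fin 2 → V => pol Q (p 0) (p 1) = 1).filter fun p => p 0 = v) with h | ⟨p₀, hp₀⟩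
    · rw [h]; simp
    simp only [Finset.mem_filter, Finset.mem_univ, true_and] at hp₀
    set L := hQ.polLin v
    have hL : L ≠ 0 := fun h0 => hv fun y => by
      rw [pol_comm]; exact LinearMap.congr_fun h0 y
    have hker : finrank F (LinearMap.ker L) + 1 ≤ finrank F V :=
      Submodule.finrank_lt fun h0 => hL (LinearMap.ker_eq_top.mp h0)
    refine le_trans (Finset.card_le_card_of_injOn (fun p => p 1 - p₀ 1)
      (t := Finset.univ.filter fun x : V => x ∈ LinearMap.ker L) ?_ ?_) ?_
    · intro p hp
      simp only [Finset.coe_filter, Set.mem_ofPred_eq, Finset.mem_filter, Finset.mem_univ, true_and] at hp ⊢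
      rw [LinearMap.mem_ker, map_sub]
      show pol Q (p 1) v - pol Q (p₀ 1) v = 0
      rw [pol_comm, ← hp.2, hp.1, pol_comm, hp.2, ← hp₀.2, hp₀.1, sub_self]
    · intro p hp p' hp' heq
      simp only [Finset.coe_filter, Set.mem_ofPred_eq, Finset.mem_filter, Finset.mem_univ, true_and] at hp hp'
      funext i
      fin_cases i
      · exact hp.2.trans hp'.2.symm
      · exact sub_left_injective heq
    · rw [← Fintype.card_subtype, Module.card_eq_pow_finrank (K := F) (V := {x // x ∈ LinearMap.ker L})]
      exact Nat.pow_le_pow_right Fintype.card_pos (by omega)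

include h2 in
/-- The orbit bound. -/
theorem card_orbit_ge (hQ : Quad Q) {v w : V} (hvw : pol Q v w ≠ 0) :
    (Fintype.card V - 1) * (Fintype.card V - Fintype.card F) ≤
      2 * (Fintype.card F + 1) * (orbit Q).card := by
  classical
  set q := Fintype.card F
  set N := finrank F V
  have hV : Fintype.card V = q ^ N := Module.card_eq_pow_finrank
  set e := (pol Q v w)⁻¹ • v
  have hew : pol Q e w = 1 := by rw [hQ.smul_left, inv_mul_cancel₀ hvw]
  have hN : 2 ≤ N := by simpa using (hQ.indep h2 hew).fintype_card_le_finrank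
  set P := Finset.univ.filter fun p : Fin 2 → V => LinearIndependent F p
  have hP : P.card = (q ^ N - 1) * (q ^ N - q) := by
    rw [← Fintype.card_subtype, ← Nat.card_eq_fintype_card, card_linearIndependent hN,
      Fin.prod_univ_two]
    simp [q, N]
  set m0 := (Finset.univ.filter fun p : Fin 2 → V => pol Q (p 0) (p 1) = 1).card
  have hcount : ∀ c : ℕ, (∀ p ∈ P, c ≤ ((orbit Q).filter fun Q' => pol Q' (p 0) (p 1) = 1).card) →
      P.card * c ≤ (orbit Q).card * m0 := by
    intro c hc
    have h1 := Finset.card_nsmul_le_sum P _ c hc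
    rw [smul_eq_mul] at h1
    refine h1.trans ?_
    simp only [Finset.card_filter]
    rw [Finset.sum_comm, ← smul_eq_mul]
    refine Finset.sum_le_card_nsmul _ _ _ fun Q' hQ' => ?_
    rw [← Finset.card_filter]
    obtain ⟨A, rfl⟩ := mem_orbit.mp hQ'
    refine le_trans (Finset.card_le_card_of_injOn (fun p i => A (p i)) ?_ ?_) le_rfl
    · intro p hp
      simp only [Finset.coe_filter, Set.mem_ofPred_eq, Finset.mem_univ, true_and] at hp ⊢
      rw [← hp.2]
      exact (pol_comp A.toLinearMap (p 0) (p 1)).symm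
    · exact fun p _ p' _ h => funext fun i => A.injective (congrFun h i)
  have hpair : ∀ p ∈ P, LinearIndependent F ![p 0, p 1] := fun p hp => by
    have : p = ![p 0, p 1] := by funext i; fin_cases i <;> rfl
    rw [← this]
    exact (Finset.mem_filter.mp hp).2
  obtain ⟨k, hk⟩ : ∃ k, N = k + 2 := ⟨N - 2, by omega⟩
  have hq2 : 2 ≤ q := Fintype.one_lt_card
  rw [hV, ← hP]
  by_cases hne : ∀ e' f', pol Q e' f' = 1 → ∃ z, pol Q z e' = 0 ∧ pol Q z f' = 0 ∧ Q z ≠ 0
  · have h1 := hcount _ fun p hp => card_at_pair_ge h2 hQ (hpair p hp) (Finset.univ : Finset (F × F))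
      fun x _ => all_values h2 hQ hew hne x.1 x.2
    rw [Finset.card_univ, Fintype.card_prod, show finrank F V - 2 = k by omega] at h1
    have h3 := card_pol_one_le hQ (Nat.zero_le _)
    rw [hV, pow_zero, show finrank F V - 1 = k + 1 by omega, hk] at h3
    have h4 : m0 ≤ q ^ (k + 2) * q ^ (k + 1) := h3.trans (Nat.mul_le_mul_right _ (Nat.sub_le _ _))
    have h5 : P.card * (q * q * (q ^ k) ^ 2) ≤ (orbit Q).card * (q ^ (k + 2) * q ^ (k + 1)) :=
      h1.trans (Nat.mul_le_mul_left _ h4)
    rw [show q ^ (k + 2) * q ^ (k + 1) = q * (q * q * (q ^ k) ^ 2) by ring, ← mul_assoc (orbit Q).card] at h5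
    refine (Nat.le_of_mul_le_mul_right h5 (by positivity)).trans ?_
    rw [mul_comm (orbit Q).card]
    exact Nat.mul_le_mul_right _ (by omega)
  · push Not at hne
    obtain ⟨e', f', he', hz⟩ := hne
    set T : V →ₗ[F] F × F := (hQ.polLin e').prod (hQ.polLin f')
    have hker : LinearMap.ker T ≤ rad hQ := by
      intro x hx y
      rw [LinearMap.mem_ker, Prod.ext_iff] at hx
      obtain ⟨hxe, hxf⟩ : pol Q x e' = 0 ∧ pol Q x f' = 0 := hx
      set y' := y + pol Q y f' • e' + pol Q y e' • f' with hy'
      have hye : pol Q y' e' = 0 := by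
        rw [hy', hQ.add_left, hQ.add_left, hQ.smul_left, hQ.smul_left, hQ.pol_self h2, pol_comm f' e',
          he']
        linear_combination pol Q y e' * h2
      have hyf : pol Q y' f' = 0 := by
        rw [hy', hQ.add_left, hQ.add_left, hQ.smul_left, hQ.smul_left, hQ.pol_self h2, he']
        linear_combination pol Q y f' * h2
      have e1 : pol Q x y = pol Q x y' := by
        rw [hy', hQ.add_right, hQ.add_right, hQ.smul_right, hQ.smul_right, hxe, hxf]
        ring
      rw [e1, pol, hz x hxe hxf, hz y' hye hyf, hz (x + y')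
        (by rw [hQ.add_left, hxe, hye, add_zero]) (by rw [hQ.add_left, hxf, hyf, add_zero]),
        add_zero, add_zero]
    have hdim : k ≤ finrank F (rad hQ) := by
      have h1 := LinearMap.finrank_range_add_finrank_ker T
      have h3 := Submodule.finrank_le (LinearMap.range T)
      have h4 := Submodule.finrank_mono hker
      simp only [Module.finrank_prod, Module.finrank_self] at h3
      omega
    set S := Finset.univ.filter fun x : F × F => ∃ e' f', pol Q e' f' = 1 ∧ Q e' = x.1 ∧ Q f' = x.2
    have h1 := hcount _ fun p hp => card_at_pair_ge h2 hQ (hpair p hp) S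
      fun x hx => (Finset.mem_filter.mp hx).2
    rw [show finrank F V - 2 = k by omega] at h1
    have h3 := card_pol_one_le hQ hdim
    rw [hV, show finrank F V - 1 = k + 1 by omega, hk] at h3
    have hS : q * (q - 1) ≤ 2 * S.card := many_values h2 hQ hew
    have h5 : P.card * (q * (q - 1) * (q ^ k) ^ 2) ≤
        (orbit Q).card * (2 * ((q ^ (k + 2) - q ^ k) * q ^ (k + 1))) := by
      calc P.card * (q * (q - 1) * (q ^ k) ^ 2) ≤ P.card * (2 * S.card * (q ^ k) ^ 2) :=
            Nat.mul_le_mul_left _ (Nat.mul_le_mul_right _ hS)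
        _ = 2 * (P.card * (S.card * (q ^ k) ^ 2)) := by ring
        _ ≤ 2 * ((orbit Q).card * ((q ^ (k + 2) - q ^ k) * q ^ (k + 1))) :=
            Nat.mul_le_mul_left _ (h1.trans (Nat.mul_le_mul_left _ h3))
        _ = _ := by ring
    obtain ⟨r, hr⟩ : ∃ r, q = r + 1 := ⟨q - 1, by omega⟩
    have h6 : q ^ (k + 2) - q ^ k = (q + 1) * (q - 1) * q ^ k := by
      rw [hr, Nat.add_sub_cancel]
      refine Nat.sub_eq_of_eq_add ?_
      ring
    rw [h6, show (orbit Q).card * (2 * ((q + 1) * (q - 1) * q ^ k * q ^ (k + 1))) =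
      2 * (q + 1) * (orbit Q).card * (q * (q - 1) * (q ^ k) ^ 2) by ring] at h5
    exact Nat.le_of_mul_le_mul_right h5
      (Nat.mul_pos (Nat.mul_pos (by omega) (by omega)) (pow_pos (pow_pos (by omega) _) _))

end CfsgLib.SpEvenMinDegree
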